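import Mathlib

/-!
# The semisimple part of a matrix lies in the closure of its conjugation orbit
-/

namespace Groth.Agent.OrbitClosure

open Module Submodule

universe u v

variable {k : Type u} [Field k]

section Flag

variable {V : Type v} [AddCommGroup V] [Module k V] [FiniteDimensional k V]

theorem span_eigvecs_inter [IsAlgClosed k] {S : End k V} (hS : S.IsSemisimple)
    (p : Submodule k V) (hp : ∀ x ∈ p, S x ∈ p) :
    span k {x | x ∈ p ∧ ∃ μ : k, S x = μ • x} = p := by
  refine le_antisymm (span_le.2 fun x hx => hx.1) ?_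
  have hfs : S.IsFinitelySemisimple := End.isFinitelySemisimple_iff_isSemisimple.mpr hS
  have h := Submodule.eq_iSup_inf_genEigenspace (p := p) (f := S) ⊤ hp
    (End.iSup_maxGenEigenspace_eq_top S)
  conv_lhs => rw [h]
  refine iSup_le fun μ x hx => subset_span ⟨(mem_inf.1 hx).1, μ, ?_⟩
  have hx2 : x ∈ S.maxGenEigenspace μ := (mem_inf.1 hx).2
  rw [hfs.maxGenEigenspace_eq_eigenspace] at hx2
  exact End.mem_eigenspace_iff.1 hx2

theorem exists_flag [IsAlgClosed k] {S N : End k V} (hS : S.IsSemisimple) (hSN : Commute S N)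
    (j : ℕ) :
    ∃ (t : Set V) (w : V → ℕ), LinearIndepOn k id t ∧
      t ⊆ {x | x ∈ LinearMap.ker (N ^ j) ∧ ∃ μ : k, S x = μ • x} ∧
      span k t = LinearMap.ker (N ^ j) ∧
      ∀ x ∈ t, N x ∈ span k {y | y ∈ t ∧ w x < w y} := by
  classical
  induction j with
  | zero =>
    exact ⟨∅, 0, linearIndepOn_empty k id, Set.empty_subset _,
      by simp [Module.End.one_eq_id], by simp⟩
  | succ j ih =>
    obtain ⟨t, w, hli, ht, hspan, hN⟩ := ih
    set E := {x | x ∈ LinearMap.ker (N ^ (j + 1)) ∧ ∃ μ : k, S x = μ • x} with hE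
    have hker : ∀ x ∈ LinearMap.ker (N ^ j), x ∈ LinearMap.ker (N ^ (j + 1)) := by
      intro x hx
      rw [LinearMap.mem_ker] at hx ⊢
      rw [pow_succ', Module.End.mul_apply, hx, map_zero]
    have htE : t ⊆ E := fun x hx => ⟨hker x (ht hx).1, (ht hx).2⟩
    obtain ⟨b, hbE, htb, hEb, hbli⟩ := exists_linearIndepOn_id_extension hli htE
    have hinv : ∀ x ∈ LinearMap.ker (N ^ (j + 1)), S x ∈ LinearMap.ker (N ^ (j + 1)) := by
      intro x hx
      rw [LinearMap.mem_ker] at hx ⊢
      have hc := (hSN.pow_right (j + 1)).eq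
      have h2 := LinearMap.congr_fun hc x
      simp only [Module.End.mul_apply] at h2
      rw [← h2, hx, map_zero]
    refine ⟨b, fun x => if x ∈ t then w x + 1 else 0, hbli, hbE, ?_, ?_⟩
    · refine le_antisymm (span_le.2 fun x hx => (hbE hx).1) ?_
      exact (span_eigvecs_inter hS _ hinv).ge.trans (span_le.2 hEb)
    · intro x hx
      by_cases hxt : x ∈ t
      · refine span_mono ?_ (hN x hxt)
        rintro y ⟨hy, hlt⟩
        exact ⟨htb hy, by simpa [hxt, hy] using hlt⟩
      · have hNx : N x ∈ span k t := by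
          rw [hspan, LinearMap.mem_ker]
          have h2 := LinearMap.mem_ker.1 (hbE hx).1
          rwa [pow_succ, Module.End.mul_apply] at h2
        refine span_mono ?_ hNx
        intro y hy
        exact ⟨htb hy, by simp [hxt, hy]⟩

/-- A basis of simultaneous eigenvectors of `S` in which the nilpotent `N` is strictly
triangular for a weight. -/
theorem exists_basis [IsAlgClosed k] {S N : End k V} (hS : S.IsSemisimple) (hN : IsNilpotent N)
    (hSN : Commute S N) :
    ∃ (b : Basis (Fin (finrank k V)) k V) (μ : Fin (finrank k V) → k)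
      (w : Fin (finrank k V) → ℕ),
      (∀ i, S (b i) = μ i • b i) ∧ ∀ i j, b.repr (N (b j)) i ≠ 0 → w j < w i := by
  classical
  obtain ⟨m, hm⟩ := hN
  obtain ⟨t, w, hli, ht, hspan, hNt⟩ := exists_flag hS hSN m
  have htop : (⊤ : Submodule k V) ≤ span k (Set.range ((↑) : t → V)) := by
    rw [Subtype.range_coe, hspan, hm, LinearMap.ker_zero]
  let b₀ : Basis t k V := Basis.mk (v := ((↑) : t → V)) hli htop
  haveI : Finite t := Module.Finite.finite_basis b₀
  haveI : Fintype t := Fintype.ofFinite t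
  let e : t ≃ Fin (finrank k V) := Fintype.equivFinOfCardEq (finrank_eq_card_basis b₀).symm
  let b := b₀.reindex e
  have hb : ∀ i, b i = ((e.symm i : t) : V) := by
    intro i
    rw [Basis.reindex_apply, Basis.mk_apply]
  have hμ : ∀ i, ∃ μ : k, S (b i) = μ • b i := fun i => by
    rw [hb]; exact (ht (e.symm i).2).2
  choose μ hμ using hμ
  refine ⟨b, μ, fun i => w (e.symm i : t), hμ, fun i j hij => ?_⟩
  have h1 : N (b j) ∈ span k (b '' {i | w (e.symm j : t) < w (e.symm i : t)}) := by
    rw [hb]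
    refine span_mono ?_ (hNt _ (e.symm j).2)
    rintro y ⟨hy, hlt⟩
    exact ⟨e ⟨y, hy⟩, by simpa using hlt, by rw [hb, e.symm_apply_apply]⟩
  exact b.repr_support_subset_of_mem_span _ h1 (Finsupp.mem_support_iff.2 hij)

end Flag

variable {n : ℕ}

theorem exists_triangular [IsAlgClosed k] (S N : Matrix (Fin n) (Fin n) k)
    (hS : End.IsSemisimple (Matrix.toLin' S)) (hN : IsNilpotent N) (hSN : Commute S N) :
    ∃ (P Q M : Matrix (Fin n) (Fin n) k) (μ : Fin n → k) (w : Fin n → ℕ),
      P * Q = 1 ∧ Q * P = 1 ∧ S = P * Matrix.diagonal μ * Q ∧ N = P * M * Q ∧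
      ∀ i j, M i j ≠ 0 → w j < w i := by
  classical
  let f := Matrix.toLinAlgEquiv' (R := k) (n := Fin n)
  have hN' : IsNilpotent (Matrix.toLin' N) := hN.map f
  have hSN' : Commute (Matrix.toLin' S) (Matrix.toLin' N) := hSN.map f
  obtain ⟨b₁, μ₁, w₁, hμ₁, hw₁⟩ := exists_basis hS hN' hSN'
  have hd : finrank k (Fin n → k) = n := finrank_fin_fun k
  let b := b₁.reindex (finCongr hd)
  let c := Pi.basisFun k (Fin n)
  refine ⟨c.toMatrix b, b.toMatrix c, LinearMap.toMatrix b b (Matrix.toLin' N),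
    fun i => μ₁ ((finCongr hd).symm i), fun i => w₁ ((finCongr hd).symm i),
    c.toMatrix_mul_toMatrix_flip b, b.toMatrix_mul_toMatrix_flip c, ?_, ?_, ?_⟩
  · have h : LinearMap.toMatrix b b (Matrix.toLin' S) =
        Matrix.diagonal fun i => μ₁ ((finCongr hd).symm i) := by
      ext i j
      rw [LinearMap.toMatrix_apply, show b j = b₁ ((finCongr hd).symm j) from
        b₁.reindex_apply _ _, hμ₁, map_smul, ← b₁.reindex_apply (finCongr hd) j,
        Basis.repr_self, Finsupp.smul_apply, Matrix.diagonal_apply, Finsupp.single_apply]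
      by_cases hij : i = j
      · subst hij; simp
      · simp [hij, Ne.symm hij]
    rw [← h, basis_toMatrix_mul_linearMap_toMatrix_mul_basis_toMatrix]
    exact (LinearMap.toMatrix'_toLin' S).symm.trans (by rw [LinearMap.toMatrix_eq_toMatrix'])
  · rw [basis_toMatrix_mul_linearMap_toMatrix_mul_basis_toMatrix]
    exact (LinearMap.toMatrix'_toLin' N).symm.trans (by rw [LinearMap.toMatrix_eq_toMatrix'])
  · intro i j hij
    apply hw₁
    rw [LinearMap.toMatrix_apply] at hij
    simpa [b, Basis.repr_reindex_apply, Basis.reindex_apply] using hij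

open Matrix Polynomial in
/-- `S` is in the closure of the orbit of `S + N`. -/
theorem mem_closure [IsAlgClosed k] (B S N : Matrix (Fin n) (Fin n) k)
    (hS : End.IsSemisimple (Matrix.toLin' S)) (hN : IsNilpotent N) (hSN : Commute S N)
    (hB : B = S + N) (F : MvPolynomial (Fin n × Fin n) k)
    (hF : ∀ A : Matrix (Fin n) (Fin n) k, IsUnit A.det →
      MvPolynomial.eval (fun p => (A * B * A⁻¹) p.1 p.2) F = 0) :
    MvPolynomial.eval (fun p => S p.1 p.2) F = 0 := by
  classical
  obtain ⟨P, Q, M, μ, w, hPQ, hQP, hSe, hNe, hw⟩ := exists_triangular S N hS hN hSN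
  let Mx : Matrix (Fin n) (Fin n) k[X] := Matrix.of fun i j =>
    Matrix.diagonal (fun l => Polynomial.C (μ l)) i j + Polynomial.X ^ (w i - w j) * Polynomial.C (M i j)
  let Gp : Matrix (Fin n) (Fin n) k[X] := P.map Polynomial.C * Mx * Q.map Polynomial.C
  let Mc : k → Matrix (Fin n) (Fin n) k := fun c => Matrix.of fun i j =>
    Matrix.diagonal μ i j + c ^ (w i - w j) * M i j
  have hGc : ∀ c : k, Gp.map (Polynomial.evalRingHom c) = P * Mc c * Q := by
    intro c
    have h1 : (P.map Polynomial.C).map (Polynomial.evalRingHom c) = P := by ext i j; simp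
    have h2 : (Q.map Polynomial.C).map (Polynomial.evalRingHom c) = Q := by ext i j; simp
    have h3 : Mx.map (Polynomial.evalRingHom c) = Mc c := by
      ext i j
      by_cases hij : i = j
      · subst hij; simp [Mx, Mc]
      · simp [Mx, Mc, hij]; ring
    simp only [Gp, Matrix.map_mul, h1, h2, h3]
  let q : k[X] := MvPolynomial.aeval (fun p : Fin n × Fin n => Gp p.1 p.2) F
  have hq : ∀ c : k, q.eval c = MvPolynomial.eval (fun p => (P * Mc c * Q) p.1 p.2) F := by
    intro c
    rw [← hGc c]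
    have h := DFunLike.congr_fun
      (MvPolynomial.comp_aeval (fun p : Fin n × Fin n => Gp p.1 p.2) (Polynomial.aeval c)) F
    simp only [AlgHom.comp_apply, Polynomial.coe_aeval_eq_eval] at h
    exact h.trans (congrFun (MvPolynomial.aeval_eq_eval _) F)
  have hne : ∀ c : k, c ≠ 0 → q.eval c = 0 := by
    intro c hc
    let T : Matrix (Fin n) (Fin n) k := Matrix.diagonal fun i => c ^ w i
    have hT : T * (Matrix.diagonal μ + M) = Mc c * T := by
      ext i j
      simp only [T, Mc, Matrix.diagonal_mul, Matrix.mul_diagonal, Matrix.of_apply, Matrix.add_apply]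
      by_cases hM : M i j = 0
      · by_cases hij : i = j
        · subst hij; simp [hM, mul_comm]
        · simp [hM, hij]
      · have hij : i ≠ j := by
          rintro rfl; exact lt_irrefl _ (hw i i hM)
        have hlt := hw i j hM
        rw [Matrix.diagonal_apply_ne _ hij, zero_add, zero_add, mul_right_comm, ← pow_add,
          Nat.sub_add_cancel hlt.le]
    have hdetT : IsUnit T.det := by
      rw [Matrix.det_diagonal, isUnit_iff_ne_zero]
      exact Finset.prod_ne_zero_iff.2 fun i _ => pow_ne_zero _ hc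
    have hdetA : IsUnit (P * T * Q).det := by
      rw [Matrix.det_mul, Matrix.det_mul]
      exact ((Matrix.isUnit_det_of_right_inverse hPQ).mul hdetT).mul
        (Matrix.isUnit_det_of_right_inverse hQP)
    have hAB : P * T * Q * B = P * Mc c * Q * (P * T * Q) := by
      have hB' : B = P * (Matrix.diagonal μ + M) * Q := by
        rw [hB, hSe, hNe, Matrix.mul_add, Matrix.add_mul]
      rw [hB']
      calc P * T * Q * (P * (Matrix.diagonal μ + M) * Q)
          = P * T * (Q * P) * (Matrix.diagonal μ + M) * Q := by simp only [Matrix.mul_assoc]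
        _ = P * (T * (Matrix.diagonal μ + M)) * Q := by
            rw [hQP]; simp only [Matrix.mul_one, Matrix.mul_assoc]
        _ = P * Mc c * (Q * P) * T * Q := by
            rw [hT, hQP]; simp only [Matrix.mul_one, Matrix.mul_assoc]
        _ = P * Mc c * Q * (P * T * Q) := by simp only [Matrix.mul_assoc]
    have h := hF _ hdetA
    rw [hAB, Matrix.mul_nonsing_inv_cancel_right _ _ hdetA] at h
    rw [hq]; exact h
  have hq0 : q = 0 := by
    refine Polynomial.eq_zero_of_infinite_isRoot q ?_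
    refine Set.Infinite.mono (fun c hc => hne c hc) ((Set.finite_singleton (0 : k)).infinite_compl)
  have h0 : Mc 0 = Matrix.diagonal μ := by
    ext i j
    by_cases hM : M i j = 0
    · simp [Mc, hM]
    · have hlt := hw i j hM
      simp [Mc, zero_pow (Nat.sub_ne_zero_of_lt hlt)]
  have := hq 0
  rw [hq0, h0, ← hSe, Polynomial.eval_zero] at this
  exact this.symm

/-- Anything in the closure of the orbit of `B` has the characteristic polynomial of `B`. -/
theorem charpoly_eq_of_mem_closure (B C : Matrix (Fin n) (Fin n) k)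
    (hC : ∀ F : MvPolynomial (Fin n × Fin n) k, (∀ A : Matrix (Fin n) (Fin n) k, IsUnit A.det →
      MvPolynomial.eval (fun p => (A * B * A⁻¹) p.1 p.2) F = 0) →
      MvPolynomial.eval (fun p => C p.1 p.2) F = 0) :
    C.charpoly = B.charpoly := by
  classical
  refine Polynomial.ext fun d => ?_
  let F : MvPolynomial (Fin n × Fin n) k :=
    (Matrix.mvPolynomialX (Fin n) (Fin n) k).charpoly.coeff d - MvPolynomial.C (B.charpoly.coeff d)
  have hev : ∀ X : Matrix (Fin n) (Fin n) k,
      MvPolynomial.eval (fun p => X p.1 p.2) F = X.charpoly.coeff d - B.charpoly.coeff d := by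
    intro X
    have h := Matrix.charpoly_map (Matrix.mvPolynomialX (Fin n) (Fin n) k)
      (MvPolynomial.eval fun p : Fin n × Fin n => X p.1 p.2)
    rw [← RingHom.mapMatrix_apply, Matrix.mvPolynomialX_mapMatrix_eval] at h
    simp only [F, map_sub, MvPolynomial.eval_C]
    rw [h, Polynomial.coeff_map]
  have h := hC F fun A hA => by
    rw [hev, sub_eq_zero]
    obtain ⟨u, rfl⟩ := (Matrix.isUnit_iff_isUnit_det A).2 hA
    rw [Matrix.charpoly_units_conj]
  rw [hev, sub_eq_zero] at h
  exact h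

/-- Semisimple matrices with the same characteristic polynomial are conjugate. -/
theorem conj_of_charpoly_eq [IsAlgClosed k] (S₁ S₂ : Matrix (Fin n) (Fin n) k)
    (h₁ : End.IsSemisimple (Matrix.toLin' S₁)) (h₂ : End.IsSemisimple (Matrix.toLin' S₂))
    (h : S₁.charpoly = S₂.charpoly) :
    ∃ A : Matrix (Fin n) (Fin n) k, IsUnit A.det ∧ A * S₁ * A⁻¹ = S₂ := by
  classical
  obtain ⟨P₁, Q₁, -, μ₁, -, hPQ₁, hQP₁, hS₁, -, -⟩ :=
    exists_triangular S₁ 0 h₁ IsNilpotent.zero (Commute.zero_right _)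
  obtain ⟨P₂, Q₂, -, μ₂, -, hPQ₂, hQP₂, hS₂, -, -⟩ :=
    exists_triangular S₂ 0 h₂ IsNilpotent.zero (Commute.zero_right _)
  have hcp : ∀ {P Q S : Matrix (Fin n) (Fin n) k} {μ : Fin n → k}, P * Q = 1 → Q * P = 1 →
      S = P * Matrix.diagonal μ * Q →
      S.charpoly.roots = (Finset.univ : Finset (Fin n)).val.map μ := by
    intro P Q S μ hPQ hQP hS
    have := Matrix.charpoly_units_conj ⟨P, Q, hPQ, hQP⟩ (Matrix.diagonal μ)
    simp only [Matrix.inv_eq_right_inv hPQ] at this
    rw [hS, this, Matrix.charpoly_diagonal]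
    have h' : ∏ i, (Polynomial.X - Polynomial.C (μ i)) =
        (((Finset.univ : Finset (Fin n)).val.map μ).map fun a => Polynomial.X - Polynomial.C a).prod := by
      rw [Multiset.map_map]; rfl
    rw [h', Polynomial.roots_multiset_prod_X_sub_C]
  have hms := (hcp hPQ₁ hQP₁ hS₁).symm.trans ((congrArg Polynomial.roots h).trans (hcp hPQ₂ hQP₂ hS₂))
  have hcard : ∀ (μ : Fin n → k) (a : k), Fintype.card {i // μ i = a} =
      Multiset.count a ((Finset.univ : Finset (Fin n)).val.map μ) := by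
    intro μ a
    rw [Fintype.card_subtype, Multiset.count_map, Finset.card_def, Finset.filter_val]
    simp [eq_comm]
  let e : Fin n ≃ Fin n := Equiv.ofFiberEquiv (f := μ₁) (g := μ₂) fun a =>
    Fintype.equivOfCardEq (by rw [hcard, hcard, hms])
  have he : ∀ j, μ₂ (e j) = μ₁ j := Equiv.ofFiberEquiv_map _
  let R : Matrix (Fin n) (Fin n) k := Matrix.of fun i j => if i = e j then 1 else 0
  have hR : R * Matrix.diagonal μ₁ = Matrix.diagonal μ₂ * R := by
    ext i j
    simp only [R, Matrix.mul_diagonal, Matrix.diagonal_mul, Matrix.of_apply]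
    by_cases hij : i = e j
    · rw [if_pos hij, hij, he, one_mul, mul_one]
    · simp [hij]
  have hRR : R * Matrix.transpose R = 1 := by
    ext i j
    simp only [R, Matrix.mul_apply, Matrix.transpose_apply, Matrix.of_apply]
    rw [Finset.sum_eq_single (e.symm i)]
    · simp [Matrix.one_apply, eq_comm]
    · intro b _ hb
      have hb' : i ≠ e b := fun hib => hb (by rw [hib, e.symm_apply_apply])
      simp [hb']
    · simp
  have hdet : IsUnit (P₂ * R * Q₁).det := by
    rw [Matrix.det_mul, Matrix.det_mul]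
    exact ((Matrix.isUnit_det_of_right_inverse hPQ₂).mul (Matrix.isUnit_det_of_right_inverse hRR)).mul
      (Matrix.isUnit_det_of_right_inverse hQP₁)
  refine ⟨P₂ * R * Q₁, hdet, ?_⟩
  have hAS : P₂ * R * Q₁ * S₁ = S₂ * (P₂ * R * Q₁) := by
    rw [hS₁, hS₂]
    calc P₂ * R * Q₁ * (P₁ * Matrix.diagonal μ₁ * Q₁)
        = P₂ * R * (Q₁ * P₁) * Matrix.diagonal μ₁ * Q₁ := by simp only [Matrix.mul_assoc]
      _ = P₂ * (R * Matrix.diagonal μ₁) * Q₁ := by
          rw [hQP₁]; simp only [Matrix.mul_one, Matrix.mul_assoc]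
      _ = P₂ * Matrix.diagonal μ₂ * (Q₂ * P₂) * R * Q₁ := by
          rw [hR, hQP₂]; simp only [Matrix.mul_one, Matrix.mul_assoc]
      _ = P₂ * Matrix.diagonal μ₂ * Q₂ * (P₂ * R * Q₁) := by simp only [Matrix.mul_assoc]
  rw [hAS, Matrix.mul_nonsing_inv_cancel_right _ _ hdet]

theorem closures_meet_iff [IsAlgClosed k] (B₁ S₁ N₁ B₂ S₂ N₂ : Matrix (Fin n) (Fin n) k)
    (hS₁ : End.IsSemisimple (Matrix.toLin' S₁)) (hN₁ : IsNilpotent N₁) (hc₁ : Commute S₁ N₁)
    (hB₁ : B₁ = S₁ + N₁) (hS₂ : End.IsSemisimple (Matrix.toLin' S₂)) (hN₂ : IsNilpotent N₂)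
    (hc₂ : Commute S₂ N₂) (hB₂ : B₂ = S₂ + N₂) :
    (∃ C : Matrix (Fin n) (Fin n) k, (∀ F : MvPolynomial (Fin n × Fin n) k,
      (∀ A : Matrix (Fin n) (Fin n) k, IsUnit A.det →
        MvPolynomial.eval (fun p => (A * B₁ * A⁻¹) p.1 p.2) F = 0) →
      MvPolynomial.eval (fun p => C p.1 p.2) F = 0) ∧
      (∀ F : MvPolynomial (Fin n × Fin n) k, (∀ A : Matrix (Fin n) (Fin n) k, IsUnit A.det →
        MvPolynomial.eval (fun p => (A * B₂ * A⁻¹) p.1 p.2) F = 0) →
      MvPolynomial.eval (fun p => C p.1 p.2) F = 0)) ↔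
    ∃ A : Matrix (Fin n) (Fin n) k, IsUnit A.det ∧ A * S₁ * A⁻¹ = S₂ := by
  have hcl : ∀ {B S N : Matrix (Fin n) (Fin n) k}, End.IsSemisimple (Matrix.toLin' S) →
      IsNilpotent N → Commute S N → B = S + N → S.charpoly = B.charpoly :=
    fun hS hN hc hB => charpoly_eq_of_mem_closure _ _ (mem_closure _ _ _ hS hN hc hB)
  constructor
  · rintro ⟨C, hC₁, hC₂⟩
    refine conj_of_charpoly_eq S₁ S₂ hS₁ hS₂ ?_
    rw [hcl hS₁ hN₁ hc₁ hB₁, hcl hS₂ hN₂ hc₂ hB₂,
      ← charpoly_eq_of_mem_closure B₁ C hC₁, ← charpoly_eq_of_mem_closure B₂ C hC₂]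
  · rintro ⟨A, hA, hAS⟩
    refine ⟨S₂, fun F hF => ?_, mem_closure B₂ S₂ N₂ hS₂ hN₂ hc₂ hB₂⟩
    obtain ⟨m, hm⟩ := hN₁
    have hconj : ∀ X Y : Matrix (Fin n) (Fin n) k,
        A * X * A⁻¹ * (A * Y * A⁻¹) = A * (X * Y) * A⁻¹ := fun X Y => by
      calc A * X * A⁻¹ * (A * Y * A⁻¹) = A * X * (A⁻¹ * A) * (Y * A⁻¹) := by
            simp only [Matrix.mul_assoc]
        _ = A * (X * Y) * A⁻¹ := by
            rw [Matrix.nonsing_inv_mul _ hA]; simp only [Matrix.mul_one, Matrix.mul_assoc]
    refine mem_closure (A * B₁ * A⁻¹) S₂ (A * N₁ * A⁻¹) hS₂ ⟨m + 1, ?_⟩ ?_ ?_ F fun A' hA' => ?_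
    · have hp : ∀ l : ℕ, (A * N₁ * A⁻¹) ^ (l + 1) = A * N₁ ^ (l + 1) * A⁻¹ := by
        intro l
        induction l with
        | zero => simp
        | succ l ih => rw [pow_succ, ih, hconj, ← pow_succ]
      rw [hp, pow_succ, hm]; simp
    · rw [← hAS, Commute, SemiconjBy, hconj, hconj, hc₁.eq]
    · rw [← hAS, hB₁, Matrix.mul_add, Matrix.add_mul]
    · have h := hF (A' * A) (by rw [Matrix.det_mul]; exact hA'.mul hA)
      rw [Matrix.mul_inv_rev] at h
      simpa only [Matrix.mul_assoc] using h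

end Groth.Agent.OrbitClosure
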